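import Groth.Agent.Lib.Lambda.Universal

/-! Vanishing of the universal product polynomials. -/

set_option autoImplicit false

universe u

open Finset MvPolynomial

namespace Groth.Agent.ElemExt5

open Groth.Agent.Lambda
open LambdaRing (IsMulPoly)

/-- The universal product polynomial at sequences supported up to `α` and `β`. -/
theorem aeval_mulPoly {A : Type u} [CommRing A] {n α β : ℕ} (hα : 1 ≤ α) (hβ : 1 ≤ β) (hn : α * β ≤ n)
    {P : MvPolynomial (Fin n ⊕ Fin n) ℤ} (hP : IsMulPoly n P) (a b : ℕ → A)
    (ha : ∀ k, α < k → a k = 0) (hb : ∀ k, β < k → b k = 0) :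
    aeval (Sum.elim (fun k : Fin n => a ((k : ℕ) + 1)) (fun k : Fin n => b ((k : ℕ) + 1))) P =
      if n = α * β then a α ^ β * b β ^ α else 0 := by
  let S := MvPolynomial (Fin α ⊕ Fin β) ℤ
  let cA : ℕ → S := fun k => if h : k - 1 < α then X (Sum.inl ⟨k - 1, h⟩) else 0
  let cB : ℕ → S := fun k => if h : k - 1 < β then X (Sum.inr ⟨k - 1, h⟩) else 0
  let tgt : S := if n = α * β then cA α ^ β * cB β ^ α else 0
  suffices key : aeval (Sum.elim (fun k : Fin n => cA ((k : ℕ) + 1)) (fun k : Fin n => cB ((k : ℕ) + 1))) P = tgt by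
    let φ : S →+* A := eval₂Hom (Int.castRingHom A)
      (Sum.elim (fun k : Fin α => a ((k : ℕ) + 1)) (fun k : Fin β => b ((k : ℕ) + 1)))
    have h := congrArg φ key
    rw [aeval_int_comm] at h
    have hA : ∀ k, 1 ≤ k → φ (cA k) = a k := fun k hk => by
      simp only [cA]
      split_ifs with h
      · refine (eval₂Hom_X' _ _ _).trans ?_
        show a (k - 1 + 1) = a k
        rw [show k - 1 + 1 = k by omega]
      · rw [map_zero, ha k (by omega)]
    have hB : ∀ k, 1 ≤ k → φ (cB k) = b k := fun k hk => by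
      simp only [cB]
      split_ifs with h
      · refine (eval₂Hom_X' _ _ _).trans ?_
        show b (k - 1 + 1) = b k
        rw [show k - 1 + 1 = k by omega]
      · rw [map_zero, hb k (by omega)]
    refine (Eq.trans ?_ h).trans ?_
    · refine aeval_int_congr (fun k => ?_) _
      rcases k with k | k <;> simp [hA, hB]
    · simp only [tgt]
      split_ifs
      · rw [map_mul, map_pow, map_pow, hA α hα, hB β hβ]
      · exact map_zero φ
  let g : MvPolynomial (Fin α ⊕ Fin β) ℚ →ₐ[ℚ] MvPolynomial (Fin α ⊕ Fin β) ℚ :=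
    aeval (Sum.elim (fun k : Fin α => rename Sum.inl (esymm (Fin α) ℚ ((k : ℕ) + 1)))
      (fun k : Fin β => rename Sum.inr (esymm (Fin β) ℚ ((k : ℕ) + 1))))
  have hg : Function.Injective g :=
    ((stInj_esymm ℚ (Fin α) α (by simp)).sum (stInj_esymm ℚ (Fin β) β (by simp))).injective
  apply MvPolynomial.map_injective (Int.castRingHom ℚ) Int.cast_injective
  apply hg
  let T := MvPolynomial (Fin α ⊕ Fin β) ℚ
  let x : Fin α → T := fun i => X (Sum.inl i)
  let y : Fin β → T := fun i => X (Sum.inr i)
  let ψ : S →+* T := g.toRingHom.comp (MvPolynomial.map (Int.castRingHom ℚ))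
  show ψ _ = ψ _
  have hes : ∀ {ι : Type} [Fintype ι] (f : ι → T) (k : ℕ), Fintype.card ι < k →
      (Finset.univ.val.map f).esymm k = 0 := fun {ι} _ f k hk => by
    rw [Finset.esymm_map_val, Finset.powersetCard_eq_empty.2 (by simpa using hk), Finset.sum_empty]
  have hcA : ∀ k, 1 ≤ k → ψ (cA k) = (Finset.univ.val.map x).esymm k := fun k hk => by
    simp only [cA]
    split_ifs with h
    · simp only [ψ, g, RingHom.comp_apply, AlgHom.toRingHom_eq_coe, RingHom.coe_coe]
      rw [MvPolynomial.map_X, aeval_X, Sum.elim_inl]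
      simp only [show k - 1 + 1 = k by omega]
      rw [MvPolynomial.esymm_eq_multiset_esymm, ← RingHom.coe_coe (rename (R := ℚ) Sum.inl), esymm_map_hom]
      exact congrArg (fun f => (Multiset.map f Finset.univ.val).esymm k) (funext fun i => rename_X _ _)
    · rw [map_zero, hes x k (by simp; omega)]
  have hcB : ∀ k, 1 ≤ k → ψ (cB k) = (Finset.univ.val.map y).esymm k := fun k hk => by
    simp only [cB]
    split_ifs with h
    · simp only [ψ, g, RingHom.comp_apply, AlgHom.toRingHom_eq_coe, RingHom.coe_coe]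
      rw [MvPolynomial.map_X, aeval_X, Sum.elim_inr]
      simp only [show k - 1 + 1 = k by omega]
      rw [MvPolynomial.esymm_eq_multiset_esymm, ← RingHom.coe_coe (rename (R := ℚ) Sum.inr), esymm_map_hom]
      exact congrArg (fun f => (Multiset.map f Finset.univ.val).esymm k) (funext fun i => rename_X _ _)
    · rw [map_zero, hes y k (by simp; omega)]
  rw [aeval_int_comm]
  refine (Eq.trans ?_ (mul_identity hP (fun k => ∑ i, x i ^ k) (fun k => ∑ i, y i ^ k))).trans ?_
  · refine aeval_int_congr (fun k => ?_) _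
    rcases k with k | k <;> simp only [Sum.elim_inl, Sum.elim_inr]
    · rw [hcA _ (by omega), esymm_map_eq_E]
    · rw [hcB _ (by omega), esymm_map_eq_E]
  rw [E_congr n (u' := fun k => ∑ p : Fin α × Fin β, (x p.1 * y p.2) ^ k) fun k _ _ => by
      rw [Fintype.sum_prod_type, Finset.sum_mul_sum]; simp [mul_pow], ← esymm_map_eq_E]
  simp only [tgt]
  split_ifs with hcase
  · have htop : ∀ {ι : Type} [Fintype ι] (f : ι → T) (k : ℕ), Fintype.card ι = k →
        (Finset.univ.val.map f).esymm k = ∏ i, f i := fun {ι} _ f k hk => by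
      rw [Finset.esymm_map_val, ← hk, ← Finset.card_univ, Finset.powersetCard_self, Finset.sum_singleton]
    rw [map_mul, map_pow, map_pow, hcA α hα, hcB β hβ, htop x α (by simp), htop y β (by simp),
      htop _ n (by simp [hcase]), Fintype.prod_prod_type]
    simp [Finset.prod_mul_distrib, Finset.prod_pow]
  · rw [map_zero, hes _ n (by simp; omega)]

end Groth.Agent.ElemExt5
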