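import Groth.Agent.Lib.ElemExt5.Ops
import Groth.Agent.Lib.ElemExt5.Vanish
import Groth.Prelude.Def_KRR

/-! The elementary extension of a positive element is a lambda ring with positive structure. -/

set_option autoImplicit false
set_option linter.unusedSectionVars false
set_option linter.style.haveILetI false
set_option maxHeartbeats 800000

universe u

open Polynomial

noncomputable section

namespace Groth.Agent.ElemExt5

open LambdaRing (LambdaOps lamSeries IsSpecial IsLambdaHom PosStructure HasSplitting IsExtension PosLambdaRing)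
open Groth.Agent.Lambda

variable {K : Type u} [CommRing K] [LambdaOps K]

theorem lam_sum_lines (s : Multiset K) (hs : ∀ c ∈ s, ∀ i, 2 ≤ i → LambdaOps.lam i c = 0) :
    ∀ k, LambdaOps.lam k s.sum = s.esymm k := by
  induction s using Multiset.induction_on with
  | empty =>
    intro k
    rw [Multiset.sum_zero, lam_zero_right]
    rcases k with _ | k <;> simp [Multiset.esymm, Multiset.powersetCard_zero_right]
  | cons a s ih =>
    intro k
    have ih' := ih fun c hc => hs c (Multiset.mem_cons_of_mem hc)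
    rcases k with _ | k
    · simp [LambdaOps.lam_zero, Multiset.esymm]
    rw [Multiset.sum_cons, add_comm a, LambdaOps.lam_add, Finset.sum_range_succ, Finset.sum_range_succ,
      Finset.sum_eq_zero fun j hj => by
        rw [hs a (Multiset.mem_cons_self a s) _ (by simp only [Finset.mem_range] at hj; omega), mul_zero],
      Nat.sub_self, LambdaOps.lam_zero, show k + 1 - k = 1 by omega, LambdaOps.lam_one, zero_add, mul_one, ih', ih']
    simp only [Multiset.esymm, Multiset.powersetCard_cons, Multiset.map_add, Multiset.sum_add, Multiset.map_map,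
      Function.comp_def, Multiset.prod_cons, Multiset.sum_map_mul_left]
    ring

variable {P : PosStructure K} {e : K}

theorem lineLike {u : K} (hu : P.IsLine u) : ∀ i, 2 ≤ i → LambdaOps.lam i u = 0 := fun i hi => line_lam P hu i hi

/-- Simultaneous splitting inside a class with the splitting property. -/
theorem exists_split (hK : HasSplitting K P) (es : List K) (he : ∀ a ∈ es, a ∈ P.pos) :
    ∃ (L : PosLambdaRing.{u}) (f : K →+* L.carrier), IsExtension P L.posStr f ∧ IsSpecial L.carrier ∧
      ∀ a ∈ es, ∃ s : Multiset L.carrier, (∀ u ∈ s, L.posStr.IsLine u) ∧ s.sum = f a := by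
  obtain ⟨C, hC, hsplit⟩ := hK
  suffices h : ∃ L ∈ C, ∃ f : K →+* L.carrier, IsExtension P L.posStr f ∧
      ∀ a ∈ es, ∃ s : Multiset L.carrier, (∀ u ∈ s, L.posStr.IsLine u) ∧ s.sum = f a by
    obtain ⟨L, hL, f, hf, hs⟩ := h
    exact ⟨L, f, hf, isSpecial_of_hasSplitting (P := L.posStr) ⟨C, hL, hsplit⟩, hs⟩
  induction es with
  | nil => exact ⟨_, hC, RingHom.id K, isExtension_id P, by simp⟩
  | cons a es ih =>
    obtain ⟨L, hL, f, hf, hs⟩ := ih fun b hb => he b (List.mem_cons_of_mem a hb)
    obtain ⟨L', hL', g, hg, s, hs', hse⟩ :=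
      hsplit L hL (f a) (hf.pos_subset a (he a (List.mem_cons_self ..)))
    refine ⟨L', hL', g.comp f, IsExtension.comp' hf hg, fun b hb => ?_⟩
    rcases List.mem_cons.1 hb with rfl | hb
    · exact ⟨s, hs', hse⟩
    · obtain ⟨t, ht, hte⟩ := hs b hb
      refine ⟨t.map g, fun u hu => ?_, ?_⟩
      · obtain ⟨v, hv, rfl⟩ := Multiset.mem_map.1 hu
        exact ⟨hg.pos_subset _ (ht v hv).1, by rw [hg.aug_comp]; exact (ht v hv).2⟩
      · rw [Multiset.sum_hom, hte]; rfl

theorem map_extPoly {L : Type u} [CommRing L] [LambdaOps L] {PL : PosStructure L} {f : K →+* L}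
    (hf : IsExtension P PL f) {s : Multiset L} (hs : ∀ u ∈ s, PL.IsLine u) (hse : s.sum = f e) :
    (KRR.extPoly P e).map f = (s.map fun u => X - C u).prod ∧ (P.aug e).toNat = Multiset.card s := by
  have hcard : (P.aug e).toNat = Multiset.card s := by
    have h : PL.aug s.sum = Multiset.card s := by
      rw [map_multiset_sum, Multiset.map_congr rfl fun u hu => (hs u hu).2]
      simp
    rw [hse, hf.aug_comp] at h
    rw [h, Int.toNat_natCast]
  refine ⟨?_, hcard⟩
  rw [Multiset.prod_X_sub_X_eq_sum_esymm, KRR.extPoly, Polynomial.map_sum, hcard]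
  refine Finset.sum_congr rfl fun i _ => ?_
  rw [Polynomial.map_mul, Polynomial.map_pow, map_X, map_C, map_mul, map_pow, map_neg, map_one, hf.isLambdaHom,
    ← hse, lam_sum_lines s fun u hu => lineLike (hs u hu), map_mul, map_pow, map_neg, map_one, mul_assoc]

theorem extPoly_facts (he : e ∈ P.pos) :
    (KRR.extPoly P e).Monic ∧ (KRR.extPoly P e).natDegree = (P.aug e).toNat ∧ 1 ≤ (P.aug e).toNat ∧
      (KRR.extPoly P e).coeff 0 = (-1) ^ (P.aug e).toNat * LambdaOps.lam (P.aug e).toNat e := by
  haveI : Nontrivial K := by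
    obtain ⟨z, hz⟩ := P.aug_surjective 1
    exact ⟨z, 0, fun h => by rw [h, map_zero] at hz; exact zero_ne_one hz⟩
  have hm : 1 ≤ (P.aug e).toNat := by have := P.aug_pos e he; omega
  have hc : (KRR.extPoly P e).coeff (P.aug e).toNat = 1 := by
    simp only [KRR.extPoly, finsetSum_coeff, coeff_C_mul_X_pow]
    rw [Finset.sum_eq_single 0]
    · simp [LambdaOps.lam_zero]
    · intro i hi hi0; rw [if_neg (by simp only [Finset.mem_range] at hi; omega)]
    · intro h; simp at h
  have hd : (KRR.extPoly P e).natDegree ≤ (P.aug e).toNat :=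
    natDegree_sum_le_of_forall_le _ _ fun i _ => (natDegree_C_mul_X_pow_le _ _).trans (by omega)
  refine ⟨monic_of_natDegree_le_of_coeff_eq_one _ hd hc, le_antisymm hd (le_natDegree_of_ne_zero (by rw [hc]; exact one_ne_zero)), hm, ?_⟩
  simp only [KRR.extPoly, finsetSum_coeff, coeff_C_mul_X_pow]
  rw [Finset.sum_eq_single (P.aug e).toNat]
  · simp
  · intro i hi hi0; rw [if_neg (by simp only [Finset.mem_range] at hi; omega)]
  · intro h; simp at h

theorem kills_extPoly (hK : HasSplitting K P) (he : e ∈ P.pos) : Kills (KRR.extPoly P e) := by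
  obtain ⟨L, f, hf, hL, hs⟩ := exists_split hK [e] (by simpa using he)
  obtain ⟨s, hs, hse⟩ := hs e (by simp)
  refine kills_of_map f hf.isLambdaHom hf.injective (extPoly_facts he).1 ?_
  rw [(map_extPoly hf hs hse).1]
  exact kills_prod hL s fun u hu => lineLike (hs u hu)

/-- The elementary extension. -/
abbrev Ext (P : PosStructure K) (e : K) : Type u := AdjoinRoot (KRR.extPoly P e)

/-- The operations on the elementary extension. -/
@[reducible] def extOps (he : e ∈ P.pos) : LambdaOps (Ext P e) := ops (extPoly_facts he).1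

/-- Products in the elementary extension follow the universal polynomials. -/
theorem lam_mul_ext (hK : HasSplitting K P) (he : e ∈ P.pos) {n : ℕ} {Q : MvPolynomial (Fin n ⊕ Fin n) ℤ}
    (hQ : LambdaRing.IsMulPoly n Q) (y z : Ext P e) :
    (extOps he).lam n (y * z) = MvPolynomial.aeval (Sum.elim (fun k : Fin n => (extOps he).lam (k + 1) y)
      (fun k : Fin n => (extOps he).lam (k + 1) z)) Q := by
  choose pp qq hp hq hpq using P.exists_sub
  obtain ⟨a, rfl⟩ := AdjoinRoot.mk_surjective y
  obtain ⟨b, rfl⟩ := AdjoinRoot.mk_surjective z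
  let xs : List K := (List.range (a.natDegree + 1)).map a.coeff ++ (List.range (b.natDegree + 1)).map b.coeff
  obtain ⟨L, f, hf, hL, hs⟩ := exists_split hK (e :: (xs.map pp ++ xs.map qq)) fun c hc => by
    simp only [List.mem_cons, List.mem_append, List.mem_map] at hc
    rcases hc with rfl | ⟨x, -, rfl⟩ | ⟨x, -, rfl⟩
    exacts [he, hp x, hq x]
  obtain ⟨hp1, -, -, -⟩ := extPoly_facts he
  obtain ⟨s, hs1, hse⟩ := hs e (by simp)
  have hk := kills_extPoly hK he
  have hk' : Kills ((KRR.extPoly P e).map f) := by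
    rw [(map_extPoly hf hs1 hse).1]
    exact kills_prod hL s fun u hu => lineLike (hs1 u hu)
  let pL := (KRR.extPoly P e).map f
  letI : LambdaOps (Ext P e) := extOps he
  letI : LambdaOps (AdjoinRoot pL) := ops (hp1.map f)
  let σ := {u : L.carrier // L.posStr.IsLine u}
  let θ : MvPolynomial (Option σ) ℤ →+* AdjoinRoot pL := MvPolynomial.eval₂Hom (Int.castRingHom _)
    fun o => o.elim (AdjoinRoot.root pL) fun u => AdjoinRoot.of pL u.1
  have hmono : ∀ d : Option σ →₀ ℕ, ∃ (j : ℕ) (v : L.carrier), L.posStr.IsLine v ∧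
      θ (MvPolynomial.monomial d 1) = AdjoinRoot.mk pL (monomial j v) := by
    intro d
    induction d using Finsupp.induction with
    | zero => exact ⟨0, 1, isLine_one _, by simp⟩
    | single_add o k d _ _ ih =>
      obtain ⟨j, v, hv, hd⟩ := ih
      have hpow : ∀ k : ℕ, ∃ (j : ℕ) (v : L.carrier), L.posStr.IsLine v ∧
          θ (MvPolynomial.X o) ^ k = AdjoinRoot.mk pL (monomial j v) := by
        intro k
        induction k with
        | zero => exact ⟨0, 1, isLine_one _, by simp⟩
        | succ k ihk =>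
          obtain ⟨j, v, hv, hk⟩ := ihk
          rcases o with _ | u
          · exact ⟨j + 1, v, hv, by rw [pow_succ, hk, ← monomial_mul_X, map_mul, AdjoinRoot.mk_X]; simp [θ]⟩
          · exact ⟨j, v * u.1, IsLine.mul' hv u.2, by
              rw [pow_succ, hk, ← monomial_mul_C, map_mul, AdjoinRoot.mk_C]; simp [θ]⟩
      obtain ⟨j', v', hv', hk'⟩ := hpow k
      refine ⟨j' + j, v' * v, IsLine.mul' hv' hv, ?_⟩
      rw [MvPolynomial.monomial_single_add, map_mul, map_pow, hd, hk', ← map_mul, monomial_mul_monomial]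
  have hθ : ∀ (d : Option σ →₀ ℕ) (i : ℕ), 2 ≤ i → LambdaOps.lam i (θ (MvPolynomial.monomial d 1)) = 0 := by
    intro d i hi
    obtain ⟨j, v, hv, hd⟩ := hmono d
    rw [hd]
    show (ops (hp1.map f)).lam i _ = 0
    rw [lam_monomial (hp1.map f) hk', lineLike hv i hi, map_zero, zero_mul]
  have h1 : ∀ i, 2 ≤ i → LambdaOps.lam i (1 : AdjoinRoot pL) = 0 := fun i hi => by
    have := hθ 0 i hi
    rwa [← MvPolynomial.C_apply, map_one, map_one] at this
  let F := AdjoinRoot.map f (KRR.extPoly P e) pL dvd_rfl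
  have hxs : ∀ x ∈ xs, F (AdjoinRoot.of _ x) ∈ θ.range := by
    intro x hx
    have hline : ∀ c, c = pp x ∨ c = qq x → AdjoinRoot.of pL (f c) ∈ θ.range := fun c hc => by
      obtain ⟨t, ht, hte⟩ := hs c (by
        simp only [List.mem_cons, List.mem_append, List.mem_map]
        rcases hc with rfl | rfl
        exacts [Or.inr (Or.inl ⟨x, hx, rfl⟩), Or.inr (Or.inr ⟨x, hx, rfl⟩)])
      rw [← hte, map_multiset_sum]
      refine Subring.multiset_sum_mem _ _ fun w hw => ?_
      obtain ⟨u, hu, rfl⟩ := Multiset.mem_map.1 hw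
      exact ⟨MvPolynomial.X (some ⟨u, ht u hu⟩), by simp [θ]⟩
    rw [hpq x, map_sub, map_sub]
    simp only [F, AdjoinRoot.map_of]
    exact sub_mem (hline _ (Or.inl rfl)) (hline _ (Or.inr rfl))
  have hroot : F (AdjoinRoot.root _) ∈ θ.range := ⟨MvPolynomial.X none, by simp [θ, F, AdjoinRoot.map]⟩
  have hrange : ∀ c : K[X], (∀ j ≤ c.natDegree, c.coeff j ∈ xs) → F (AdjoinRoot.mk _ c) ∈ θ.range := by
    intro c hc
    rw [c.as_sum_range_C_mul_X_pow, map_sum, map_sum]
    refine Subring.sum_mem _ fun j hj => ?_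
    rw [map_mul, map_pow, AdjoinRoot.mk_C, AdjoinRoot.mk_X, map_mul, map_pow]
    exact mul_mem (hxs _ (hc j (by simp only [Finset.mem_range] at hj; omega))) (pow_mem hroot _)
  obtain ⟨w, hw⟩ := hrange a fun j hj => List.mem_append_left _ (List.mem_map.2 ⟨j, List.mem_range.2 (by omega), rfl⟩)
  obtain ⟨w', hw'⟩ := hrange b fun j hj => List.mem_append_right _ (List.mem_map.2 ⟨j, List.mem_range.2 (by omega), rfl⟩)
  have hF : IsLambdaHom F := isLambdaHom_map hp1 f hf.isLambdaHom hk hk'
  apply injective_map hp1 f hf.injective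
  show F _ = F _
  rw [hF, map_mul, ← hw, ← hw', lam_mul_lines θ h1 hθ hQ, aeval_int_comm]
  refine aeval_int_congr (fun k => ?_) _
  rcases k with k | k <;> simp only [Sum.elim_inl, Sum.elim_inr, hw, hw', hF (↑k + 1)]

/-- The positive elements of the elementary extension. -/
inductive Pos (P : PosStructure K) (e : K) : Ext P e → Prop
  | of (x : K) : x ∈ P.pos → Pos P e (AdjoinRoot.of _ x)
  | root : Pos P e (AdjoinRoot.root _)
  | rest : 2 ≤ P.aug e → Pos P e (AdjoinRoot.of _ e - AdjoinRoot.root _)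
  | add {y z} : Pos P e y → Pos P e z → Pos P e (y + z)
  | mul {y z} : Pos P e y → Pos P e z → Pos P e (y * z)

theorem eval_aug_extPoly (hK : HasSplitting K P) (he : e ∈ P.pos) : (KRR.extPoly P e).eval₂ P.aug 1 = 0 := by
  obtain ⟨L, f, hf, -, hs⟩ := exists_split hK [e] (by simpa using he)
  obtain ⟨s, hs, hse⟩ := hs e (by simp)
  obtain ⟨hmap, hcard⟩ := map_extPoly hf hs hse
  obtain ⟨c, hc⟩ := Multiset.card_pos_iff_exists_mem.1 (show 0 < Multiset.card s by
    have := (extPoly_facts he).2.2.1; omega)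
  rw [show P.aug = L.posStr.aug.comp f from RingHom.ext fun x => (hf.aug_comp x).symm, ← eval₂_map, hmap,
    ← coe_eval₂RingHom, map_multiset_prod, Multiset.prod_eq_zero_iff, Multiset.map_map]
  exact Multiset.mem_map.2 ⟨c, hc, by simp [(hs c hc).2]⟩

/-- The augmentation of the elementary extension. -/
def extAug (hK : HasSplitting K P) (he : e ∈ P.pos) : Ext P e →+* ℤ :=
  AdjoinRoot.lift P.aug 1 (eval_aug_extPoly hK he)

theorem good_pos (hK : HasSplitting K P) (he : e ∈ P.pos) {y : Ext P e} (hy : Pos P e y) :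
    ∃ a : ℕ, 1 ≤ a ∧ extAug hK he y = a ∧ (∀ i, a < i → (extOps he).lam i y = 0) ∧
      IsUnit ((extOps he).lam a y) := by
  obtain ⟨hp, -, hm, hc0⟩ := extPoly_facts he
  have hk := kills_extPoly hK he
  letI : LambdaOps (Ext P e) := extOps he
  have hof : ∀ (x : K) i, LambdaOps.lam i (AdjoinRoot.of (KRR.extPoly P e) x) =
      AdjoinRoot.of _ (LambdaOps.lam i x) := fun x i => lam_of hp hk x i
  let ℓ : Ext P e := AdjoinRoot.root _
  have hroot : ∀ i, LambdaOps.lam i ℓ = AdjoinRoot.of _ (LambdaOps.lam i (1 : K)) * ℓ ^ i := fun i => by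
    have := lam_monomial hp hk 1 1 i
    rwa [monomial_one_one_eq_X, AdjoinRoot.mk_X, one_mul] at this
  have hroot2 : ∀ i, 2 ≤ i → LambdaOps.lam i ℓ = 0 := fun i hi => by
    rw [hroot, pos_lam_one P i hi, map_zero, zero_mul]
  have hunit : IsUnit ℓ := by
    have h := congrArg (AdjoinRoot.mk (KRR.extPoly P e)) (X_mul_divX_add (KRR.extPoly P e))
    rw [map_add, map_mul, AdjoinRoot.mk_X, AdjoinRoot.mk_C, AdjoinRoot.mk_self, hc0] at h
    have hu : IsUnit (AdjoinRoot.of (KRR.extPoly P e) ((-1) ^ (P.aug e).toNat * LambdaOps.lam (P.aug e).toNat e)) :=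
      (((isUnit_one.neg).pow _).mul (P.isUnit_lam e he)).map _
    rw [eq_neg_of_add_eq_zero_right h, IsUnit.neg_iff] at hu
    exact isUnit_of_mul_isUnit_left hu
  induction hy with
  | of x hx =>
    have := P.aug_pos x hx
    exact ⟨(P.aug x).toNat, by omega, by simp [extAug, AdjoinRoot.lift_of]; omega,
      fun i hi => by rw [hof, lam_pos_eq_zero P hx i hi, map_zero], by
        rw [hof]; exact (P.isUnit_lam x hx).map _⟩
  | root =>
    exact ⟨1, le_rfl, by simp [extAug, AdjoinRoot.lift_root], fun i hi => hroot2 i hi, by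
      rw [LambdaOps.lam_one]; exact hunit⟩
  | rest h2 =>
    let r : Ext P e := AdjoinRoot.of _ e - ℓ
    let c : ℕ → Ext P e := fun k => LambdaOps.lam k r
    have hrec : ∀ k, c (k + 1) + c k * ℓ = AdjoinRoot.of _ (LambdaOps.lam (k + 1) e) := fun k => by
      rw [← hof, show AdjoinRoot.of _ e = r + ℓ by simp [r], LambdaOps.lam_add, Finset.sum_range_succ,
        Finset.sum_range_succ, Finset.sum_eq_zero fun j hj => by
          rw [hroot2 _ (by simp only [Finset.mem_range] at hj; omega), mul_zero],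
        Nat.sub_self, LambdaOps.lam_zero, show k + 1 - k = 1 by omega, LambdaOps.lam_one, zero_add, mul_one]
      exact add_comm _ _
    have hclosed : ∀ k, c k = ∑ i ∈ Finset.range (k + 1), AdjoinRoot.of _ (LambdaOps.lam i e) * (-ℓ) ^ (k - i) := by
      intro k
      induction k with
      | zero => simp [c, LambdaOps.lam_zero]
      | succ k ih =>
        rw [eq_sub_of_add_eq (hrec k), Finset.sum_range_succ, Nat.sub_self, pow_zero, mul_one, ih, Finset.sum_mul,
          sub_eq_add_neg, add_comm, ← Finset.sum_neg_distrib]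
        congr 1
        refine Finset.sum_congr rfl fun i hi => ?_
        rw [show k + 1 - i = (k - i) + 1 by simp only [Finset.mem_range] at hi; omega, pow_succ]
        ring
    have hzero : ∀ i, (P.aug e).toNat ≤ i → c i = 0 := by
      intro i hi
      induction i, hi using Nat.le_induction with
      | base =>
        rw [hclosed]
        have h0 : AdjoinRoot.mk (KRR.extPoly P e) (KRR.extPoly P e) = 0 := AdjoinRoot.mk_self
        conv at h0 => lhs; arg 2; unfold KRR.extPoly
        rw [map_sum] at h0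
        have h1 := congrArg ((-1 : Ext P e) ^ (P.aug e).toNat * ·) h0
        simp only [mul_zero, Finset.mul_sum] at h1
        refine Eq.trans (Finset.sum_congr rfl fun j hj => ?_) h1
        simp only [Finset.mem_range] at hj
        rw [map_mul, AdjoinRoot.mk_C, map_pow, AdjoinRoot.mk_X, map_mul, map_pow, map_neg, map_one, neg_pow ℓ,
          show (-1 : Ext P e) ^ (P.aug e).toNat = (-1) ^ j * (-1) ^ ((P.aug e).toNat - j) by
            rw [← pow_add]; congr 1; omega]
        have hsq : ((-1 : Ext P e) ^ j) * (-1) ^ j = 1 := by rw [← mul_pow]; simp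
        linear_combination (-(AdjoinRoot.of _ (LambdaOps.lam j e) * (-1) ^ ((P.aug e).toNat - j) *
          ℓ ^ ((P.aug e).toNat - j))) * hsq
      | succ i hi ih =>
        rw [eq_sub_of_add_eq (hrec i), ih, zero_mul, sub_zero, lam_pos_eq_zero P he (i + 1) (by omega), map_zero]
    refine ⟨(P.aug e).toNat - 1, by omega, ?_, fun i hi => hzero i (by omega), ?_⟩
    · simp [extAug, AdjoinRoot.lift_of, AdjoinRoot.lift_root]; omega
    · obtain ⟨m, hmm⟩ : ∃ m, (P.aug e).toNat = m + 1 := ⟨_, (Nat.sub_add_cancel hm).symm⟩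
      have h := hrec m
      rw [hzero (m + 1) hmm.le, zero_add, ← hmm] at h
      have hu : IsUnit (c m * ℓ) := h ▸ (P.isUnit_lam e he).map _
      rw [hmm, Nat.add_sub_cancel]
      exact isUnit_of_mul_isUnit_left hu
  | @add y z hy hz ihy ihz =>
    obtain ⟨a, ha, hya, hyz, hyu⟩ := ihy
    obtain ⟨b, hb, hzb, hzz, hzu⟩ := ihz
    refine ⟨a + b, by omega, by rw [map_add, hya, hzb]; push_cast; rfl, fun i hi => ?_, ?_⟩
    · rw [LambdaOps.lam_add]
      refine Finset.sum_eq_zero fun j hj => ?_
      by_cases hja : a < j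
      · rw [hyz j hja, zero_mul]
      · rw [hzz (i - j) (by omega), mul_zero]
    · rw [LambdaOps.lam_add, Finset.sum_eq_single a (fun j hj hja => by
        by_cases h : a < j
        · rw [hyz j h, zero_mul]
        · rw [hzz (a + b - j) (by omega), mul_zero]) (fun h => by simp at h), Nat.add_sub_cancel_left]
      exact hyu.mul hzu
  | @mul y z hy hz ihy ihz =>
    obtain ⟨a, ha, hya, hyz, hyu⟩ := ihy
    obtain ⟨b, hb, hzb, hzz, hzu⟩ := ihz
    have key : ∀ i, a * b ≤ i → LambdaOps.lam i (y * z) =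
        if i = a * b then LambdaOps.lam a y ^ b * LambdaOps.lam b z ^ a else 0 := fun i hi => by
      obtain ⟨Q, hQ⟩ := exists_isMulPoly i
      exact (lam_mul_ext hK he hQ y z).trans
        (aeval_mulPoly ha hb hi hQ (fun k => LambdaOps.lam k y) (fun k => LambdaOps.lam k z) hyz hzz)
    refine ⟨a * b, Nat.one_le_iff_ne_zero.2 (Nat.mul_ne_zero (by omega) (by omega)),
      by rw [map_mul, hya, hzb]; push_cast; rfl, fun i hi => by rw [key i hi.le, if_neg (by omega)], ?_⟩
    rw [key _ le_rfl, if_pos rfl]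
    exact (hyu.pow b).mul (hzu.pow a)

end Groth.Agent.ElemExt5
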