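import Groth.Agent.Lib.Lambda.Split
import Groth.Agent.Lib.Lambda.BottARR
import Mathlib.RingTheory.AdjoinRoot
import Mathlib.RingTheory.Polynomial.Vieta

/-! Lambda operations on an elementary extension. -/

set_option autoImplicit false
set_option linter.unusedSectionVars false

universe u

open Polynomial

noncomputable section

namespace Groth.Agent.ElemExt5

open LambdaRing (LambdaOps lamSeries IsSpecial IsLambdaHom)
open Groth.Agent.Lambda

variable {A B : Type u} [CommRing A] [LambdaOps A] [CommRing B] [LambdaOps B]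

/-- The series of one monomial. -/
def monoHom (j : ℕ) : A →+ Additive (PowerSeries A[X])ˣ :=
  AddMonoidHom.mk' (fun a => Additive.ofMul (Units.map
    ((PowerSeries.rescale ((Polynomial.X : A[X]) ^ j)).comp (PowerSeries.map Polynomial.C)).toMonoidHom
    (isUnit_lamSeries a).unit)) fun a b => by
      rw [← ofMul_mul, ← map_mul]
      refine congrArg (fun z => Additive.ofMul (Units.map _ z)) (Units.ext ?_)
      simp [lamSeries_add]

/-- The series of a polynomial in a line element. -/
def serHom : A[X] →+ Additive (PowerSeries A[X])ˣ :=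
  AddMonoidHom.mk' (fun q => q.sum fun j a => monoHom j a)
    fun p q => Polynomial.sum_add_index p q _ (fun j => map_zero _) (fun j a b => map_add _ a b)

/-- The series of a polynomial. -/
def ser (q : A[X]) : PowerSeries A[X] := ((serHom q).toMul : (PowerSeries A[X])ˣ)

theorem isUnit_ser (q : A[X]) : IsUnit (ser q) := Units.isUnit _

theorem ser_add (p q : A[X]) : ser (p + q) = ser p * ser q := by
  simp [ser, map_add]

theorem ser_zero : ser (0 : A[X]) = 1 := by simp [ser]

theorem ser_monomial (j : ℕ) (a : A) :
    ser (monomial j a) = PowerSeries.rescale ((X : A[X]) ^ j) (PowerSeries.map C (lamSeries a)) := by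
  have h : serHom (monomial j a) = monoHom j a := Polynomial.sum_monomial_index a _ (map_zero _)
  simp [ser, h, monoHom]

theorem ser_C (a : A) : ser (C a) = PowerSeries.map C (lamSeries a) := by
  rw [← monomial_zero_left, ser_monomial, pow_zero, PowerSeries.rescale_one, RingHom.id_apply]

theorem ser_X_mul (q : A[X]) : ser (X * q) = PowerSeries.rescale (X : A[X]) (ser q) := by
  induction q using Polynomial.induction_on' with
  | add p q hp hq => rw [mul_add, ser_add, ser_add, hp, hq, map_mul]
  | monomial j a =>
    rw [X_mul_monomial, ser_monomial, ser_monomial, PowerSeries.rescale_rescale, ← pow_succ]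

theorem ser_C_mul (hA : IsSpecial A) {c : A} (hc : ∀ i, 2 ≤ i → LambdaOps.lam i c = 0) (q : A[X]) :
    ser (C c * q) = PowerSeries.rescale (C c) (ser q) := by
  induction q using Polynomial.induction_on' with
  | add p q hp hq => rw [mul_add, ser_add, ser_add, hp, hq, map_mul]
  | monomial j a =>
    rw [C_mul_monomial, ser_monomial, ser_monomial]
    ext n : 1
    rw [PowerSeries.coeff_rescale, PowerSeries.coeff_rescale, PowerSeries.coeff_rescale, PowerSeries.coeff_map,
      PowerSeries.coeff_map, coeff_lamSeries, coeff_lamSeries, mul_comm c a, lam_mul_line hA a c hc n, map_mul,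
      map_pow]
    ring

theorem ser_map (f : A →+* B) (hf : IsLambdaHom f) (q : A[X]) :
    ser (q.map f) = PowerSeries.map (mapRingHom f) (ser q) := by
  induction q using Polynomial.induction_on' with
  | add p q hp hq => rw [Polynomial.map_add, ser_add, ser_add, hp, hq, map_mul]
  | monomial j a =>
    rw [map_monomial, ser_monomial, ser_monomial]
    ext n : 1
    simp [coeff_lamSeries, hf n a]

theorem coeff_zero_ser (q : A[X]) : PowerSeries.coeff 0 (ser q) = 1 := by
  induction q using Polynomial.induction_on' with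
  | add p q hp hq =>
    rw [ser_add, PowerSeries.coeff_mul, Finset.Nat.antidiagonal_zero, Finset.sum_singleton, hp, hq, one_mul]
  | monomial j a =>
    rw [ser_monomial, PowerSeries.coeff_rescale, PowerSeries.coeff_map, coeff_lamSeries, LambdaOps.lam_zero,
      pow_zero, map_one, one_mul]

theorem coeff_one_ser (q : A[X]) : PowerSeries.coeff 1 (ser q) = q := by
  induction q using Polynomial.induction_on' with
  | add p q hp hq =>
    rw [ser_add, PowerSeries.coeff_mul, Finset.Nat.sum_antidiagonal_eq_sum_range_succ_mk, Finset.sum_range_succ,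
      Finset.sum_range_one, Nat.sub_zero, Nat.sub_self, hp, hq, coeff_zero_ser, coeff_zero_ser, one_mul, mul_one,
      add_comm]
  | monomial j a =>
    rw [ser_monomial, PowerSeries.coeff_rescale, PowerSeries.coeff_map, coeff_lamSeries, LambdaOps.lam_one,
      pow_one, mul_comm, C_mul_X_pow_eq_monomial]

/-- Multiples of `p` have trivial series modulo `p`. -/
def Kills (p : A[X]) : Prop := ∀ x : A[X], PowerSeries.map (AdjoinRoot.mk p) (ser (x * p)) = 1

theorem dvd_rescale_sub (a b : A[X]) (F : PowerSeries A[X]) :
    PowerSeries.C (a - b) ∣ PowerSeries.rescale a F - PowerSeries.rescale b F := by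
  choose r hr using fun n : ℕ => sub_dvd_pow_sub_pow a b n
  refine ⟨PowerSeries.mk fun n => r n * PowerSeries.coeff n F, ?_⟩
  ext n : 1
  rw [map_sub, PowerSeries.coeff_rescale, PowerSeries.coeff_rescale, PowerSeries.coeff_C_mul, PowerSeries.coeff_mk,
    ← sub_mul, hr n, mul_assoc]

theorem kills_prod (hA : IsSpecial A) (s : Multiset A) (hs : ∀ c ∈ s, ∀ i, 2 ≤ i → LambdaOps.lam i c = 0) :
    Kills (s.map fun c => X - C c).prod := by
  have key : ∀ x : A[X], PowerSeries.C (s.map fun c => X - C c).prod ∣
      ser (x * (s.map fun c => X - C c).prod) - 1 := by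
    induction s using Multiset.induction_on with
    | empty => intro x; simp
    | cons c s ih =>
      intro x
      let q := (s.map fun c => X - C c).prod
      obtain ⟨H, hH⟩ := ih (fun d hd => hs d (Multiset.mem_cons_of_mem hd)) x
      have hH' : ser (x * q) = 1 + PowerSeries.C q * H := eq_add_of_sub_eq' hH
      rw [Multiset.map_cons, Multiset.prod_cons]
      have e : ser (x * ((X - C c) * q)) * ser (C c * (x * q)) = ser (X * (x * q)) := by
        rw [← ser_add]; congr 1; ring
      obtain ⟨H', hH2⟩ := dvd_rescale_sub X (C c) H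
      refine ((isUnit_ser (C c * (x * q))).dvd_mul_right).1 ⟨H', ?_⟩
      rw [sub_mul, one_mul, e, ser_X_mul, ser_C_mul hA (hs c (Multiset.mem_cons_self c s)), hH']
      have hCq : ∀ a : A[X], PowerSeries.rescale a (PowerSeries.C q) = PowerSeries.C q := fun a => by
        ext n : 1
        rw [PowerSeries.coeff_rescale, PowerSeries.coeff_C]
        split_ifs with h <;> simp [h]
      rw [map_add, map_add, map_one, map_one, map_mul, map_mul, hCq, hCq, map_mul, mul_right_comm, ← hH2]
      ring
  intro x
  obtain ⟨H, hH⟩ := key x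
  rw [eq_add_of_sub_eq' hH, map_add, map_mul, map_one, PowerSeries.map_C, AdjoinRoot.mk_self, map_zero, zero_mul,
    add_zero]

theorem kills_of_map (f : A →+* B) (hf : IsLambdaHom f) (hinj : Function.Injective f) {p : A[X]} (hp : p.Monic)
    (h : Kills (p.map f)) : Kills p := fun x => by
  have hx := h (x.map f)
  rw [← Polynomial.map_mul, ser_map f hf] at hx
  ext n : 1
  have hn := congrArg (PowerSeries.coeff n) hx
  rw [PowerSeries.coeff_map, PowerSeries.coeff_map] at hn
  rw [PowerSeries.coeff_map, PowerSeries.coeff_one]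
  rw [PowerSeries.coeff_one] at hn
  split_ifs with h0
  · subst h0
    rw [coeff_zero_ser, map_one]
  · rw [if_neg h0, AdjoinRoot.mk_eq_zero, coe_mapRingHom, map_dvd_map f hinj hp] at hn
    exact AdjoinRoot.mk_eq_zero.2 hn

section Ext

variable {p : A[X]} (hp : p.Monic)

/-- The series of an element of the extension. -/
def serBar (y : AdjoinRoot p) : PowerSeries (AdjoinRoot p) :=
  PowerSeries.map (AdjoinRoot.mk p) (ser (AdjoinRoot.modByMonicHom hp y))

theorem serBar_add (y z : AdjoinRoot p) : serBar hp (y + z) = serBar hp y * serBar hp z := by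
  rw [serBar, map_add, ser_add, map_mul]; rfl

/-- The operations on the extension. -/
@[reducible] def ops : LambdaOps (AdjoinRoot p) where
  lam i y := PowerSeries.coeff i (serBar hp y)
  lam_zero y := by rw [serBar, PowerSeries.coeff_map, coeff_zero_ser, map_one]
  lam_one y := by rw [serBar, PowerSeries.coeff_map, coeff_one_ser, AdjoinRoot.mk_leftInverse hp]
  lam_add k x y := by
    rw [serBar_add, PowerSeries.coeff_mul, Finset.Nat.sum_antidiagonal_eq_sum_range_succ_mk]

theorem lamSeries_ops (y : AdjoinRoot p) : @lamSeries _ _ (ops hp) y = serBar hp y :=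
  PowerSeries.ext fun _ => PowerSeries.coeff_mk _ _

variable (hk : Kills p)
include hk

theorem serBar_mk (q : A[X]) : serBar hp (AdjoinRoot.mk p q) = PowerSeries.map (AdjoinRoot.mk p) (ser q) := by
  rw [serBar, AdjoinRoot.modByMonicHom_mk]
  have h : q = q %ₘ p + (q /ₘ p) * p := by rw [mul_comm]; exact (modByMonic_add_div q p).symm
  conv_rhs => rw [h, ser_add, map_mul, hk, mul_one]

theorem lam_monomial (j : ℕ) (a : A) (i : ℕ) :
    (ops hp).lam i (AdjoinRoot.mk p (monomial j a)) =
      AdjoinRoot.of p (LambdaOps.lam i a) * AdjoinRoot.root p ^ (j * i) := by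
  show PowerSeries.coeff i (serBar hp _) = _
  rw [serBar_mk hp hk, ser_monomial, PowerSeries.coeff_map, PowerSeries.coeff_rescale, PowerSeries.coeff_map,
    coeff_lamSeries, map_mul, map_pow, map_pow, AdjoinRoot.mk_X, AdjoinRoot.mk_C, ← pow_mul, mul_comm]

theorem lam_of (x : A) (i : ℕ) :
    (ops hp).lam i (AdjoinRoot.of p x) = AdjoinRoot.of p (LambdaOps.lam i x) := by
  rw [← AdjoinRoot.mk_C (f := p), ← monomial_zero_left, lam_monomial hp hk 0 x i]
  simp

omit hk in
theorem isLambdaHom_map (f : A →+* B) (hf : IsLambdaHom f) (hk : Kills p) (hk' : Kills (p.map f)) :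
    @IsLambdaHom _ _ (ops hp) _ _ (ops (hp.map f)) (AdjoinRoot.map f p (p.map f) dvd_rfl) := by
  intro i y
  obtain ⟨q, rfl⟩ := AdjoinRoot.mk_surjective y
  have hmk : ∀ q : A[X], AdjoinRoot.map f p (p.map f) dvd_rfl (AdjoinRoot.mk p q) =
      AdjoinRoot.mk (p.map f) (q.map f) := fun q => by
    simp only [AdjoinRoot.map, AdjoinRoot.lift_mk]
    rw [← Polynomial.eval₂_map, ← AdjoinRoot.algebraMap_eq, ← aeval_def, AdjoinRoot.aeval_eq]
  show AdjoinRoot.map f p (p.map f) dvd_rfl (PowerSeries.coeff i (serBar hp _)) =
    PowerSeries.coeff i (serBar (hp.map f) _)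
  rw [hmk, serBar_mk hp hk, serBar_mk (hp.map f) hk', ser_map f hf, PowerSeries.coeff_map, PowerSeries.coeff_map,
    PowerSeries.coeff_map, hmk, coe_mapRingHom]

omit hk in
theorem injective_map (hp : p.Monic) (f : A →+* B) (hinj : Function.Injective f) :
    Function.Injective (AdjoinRoot.map f p (p.map f) dvd_rfl) := by
  rw [injective_iff_map_eq_zero]
  intro y
  obtain ⟨q, rfl⟩ := AdjoinRoot.mk_surjective y
  simp only [AdjoinRoot.map, AdjoinRoot.lift_mk]
  rw [← Polynomial.eval₂_map, ← AdjoinRoot.algebraMap_eq, ← aeval_def, AdjoinRoot.aeval_eq, AdjoinRoot.mk_eq_zero,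
    map_dvd_map f hinj hp]
  exact AdjoinRoot.mk_eq_zero.2

end Ext

end Groth.Agent.ElemExt5
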